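import Groth.Agent.Lib.CurveCoh17.EtaleEuler
import Groth.Agent.Lib.MumVan22.ChiTwist
import Groth.Agent.Lib.ResDesc11.Basic
import Groth.Agent.Lib.Snapper.Hilb

/-!
# The Euler characteristic is multiplicative along finite étale morphisms, in any dimension
-/

set_option autoImplicit false
set_option linter.style.haveILetI false
set_option linter.unusedSectionVars false
set_option maxHeartbeats 1000000
set_option backward.isDefEq.respectTransparency false

universe u

open CategoryTheory CategoryTheory.Limits AlgebraicGeometry TopologicalSpace Opposite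

noncomputable section

namespace Groth.Agent.EtaleChi1

open Groth.Agent CurveCoh17

variable {k : Type u} [Field k]

/-- The direct image along a scheme split into two open pieces is a split extension. -/
theorem exists_pushSplitting {X W A B : Scheme.{u}} (a : A ⟶ W) (b : B ⟶ W) [IsOpenImmersion a] [IsOpenImmersion b]
    (p : W ⟶ X) (hcov : ∀ w : W, w ∈ Set.range a ∨ w ∈ Set.range b)
    (hdisj : Disjoint (Set.range a) (Set.range b)) :
    ∃ (f : pushO (b ≫ p) ⟶ pushO p) (g : pushO p ⟶ pushO (a ≫ p)) (w : f ≫ g = 0),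
      Nonempty (ShortComplex.mk f g w).Splitting := by
  obtain ⟨εa, ha₁, ha₂⟩ := exists_pushExt a b p hcov hdisj
  obtain ⟨εb, hb₁, hb₂⟩ := exists_pushExt b a p (fun w => (hcov w).symm) hdisj.symm
  refine ⟨εb, pushRes p a, hb₂, ⟨{ r := pushRes p b, s := εa, f_r := hb₁, s_g := ha₁, id := ?_ }⟩⟩
  apply Scheme.Modules.hom_ext
  intro U
  ext s
  show εb.app U ((pushRes p b).app U s) + εa.app U ((pushRes p a).app U s) = s
  have h1 : ∀ x, (pushRes p a).app U (εa.app U x) = x := fun x =>
    congr($(congrArg (fun f => Scheme.Modules.Hom.app f U) ha₁) x)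
  have h2 : ∀ x, (pushRes p b).app U (εb.app U x) = x := fun x =>
    congr($(congrArg (fun f => Scheme.Modules.Hom.app f U) hb₁) x)
  have h3 : ∀ x, (pushRes p b).app U (εa.app U x) = 0 := fun x =>
    congr($(congrArg (fun f => Scheme.Modules.Hom.app f U) ha₂) x)
  have h4 : ∀ x, (pushRes p a).app U (εb.app U x) = 0 := fun x =>
    congr($(congrArg (fun f => Scheme.Modules.Hom.app f U) hb₂) x)
  refine eq_of_app_eq a b hcov _ _ ?_ ?_
  · show (pushRes p a).app U _ = (pushRes p a).app U s
    rw [map_add, h4, h1, zero_add]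
  · show (pushRes p b).app U _ = (pushRes p b).app U s
    rw [map_add, h2, h3, add_zero]

/-- `χ(f^*G) = χ(G ⊗ f_* O)` for a finite morphism. -/
theorem euler_pullback_eq {X Y : Scheme.{u}} [X.Over (Spec (CommRingCat.of k))] [Y.Over (Spec (CommRingCat.of k))]
    (f : X ⟶ Y) [IsFinite f] (hf : f ≫ (Y ↘ Spec (CommRingCat.of k)) = X ↘ Spec (CommRingCat.of k))
    (G : Y.Modules) (hG : Coh.IsCoh G) :
    Curv2.euler k X ((Scheme.Modules.pullback f).obj G) = Curv2.euler k Y (CohB1.tensorMod G (pushO f)) := by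
  haveI := hG.1
  haveI := ResDesc11.isIso_proj f G
  rw [CurveCoh17.euler_iso (CategoryTheory.asIso (ResDesc11.proj f G))]
  haveI : ((Scheme.Modules.pullback f).obj G).IsQuasicoherent := M1.isQCoh_pullback f hG.1
  refine finsum_congr fun n => ?_
  obtain ⟨e⟩ := nonempty_hequiv_push k f hf ((Scheme.Modules.pullback f).obj G) n
  rw [e.finrank_eq]

/-- `χ(f^*G) = n χ(G)` for `f` finite étale with `f_* O` of rank `n`. -/
theorem euler_pullback_etale (n : ℕ) : ∀ {X Y : Scheme.{u}} [X.Over (Spec (CommRingCat.of k))]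
    [Y.Over (Spec (CommRingCat.of k))] [IsProper (Y ↘ Spec (CommRingCat.of k))] (f : X ⟶ Y) [IsFinite f] [Etale f]
    (_ : f ≫ (Y ↘ Spec (CommRingCat.of k)) = X ↘ Spec (CommRingCat.of k))
    (_ : FlatMod.IsFinLocFreeOfRank n (pushO f)) (G : Y.Modules) (_ : Coh.IsCoh G),
    Curv2.euler k X ((Scheme.Modules.pullback f).obj G) = n * Curv2.euler k Y G := by
  induction n with
  | zero =>
    intro X Y _ _ _ f _ _ hf hr G hG
    haveI : IsNoetherian Y := CohFound.isNoetherian_of_isProper (Y ↘ Spec (CommRingCat.of k))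
    have hz : IsZero (pushO f) := Snapper.isZero_of_support_empty (Set.eq_empty_of_forall_notMem fun y hy => by
      obtain ⟨e⟩ := nonempty_stalk_equiv hr y
      exact hy e.toEquiv.subsingleton)
    rw [euler_pullback_eq f hf G hG, Snapper.euler_of_isZero (CurveCoh17.isCoh_tensor hG (isCoh_of_ofRank hr))
      (IsZero.of_iso ((M2.tensorR G).map_isZero hz) (M2.tensorComm G (pushO f)))]
    simp
  | succ n ih =>
    intro X Y _ _ _ f _ _ hf hr G hG
    let W := pullback f f
    let p : W ⟶ X := pullback.fst f f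
    let a : X ⟶ W := pullback.diagonal f
    haveI : IsOpenImmersion a := inferInstanceAs (IsOpenImmersion (pullback.diagonal f))
    haveI : IsClosedImmersion a := IsSeparated.isClosedImmersion_diagonal
    let Z : W.Opens := ⟨(Set.range a)ᶜ, a.isClosedEmbedding.isClosed_range.isOpen_compl⟩
    let b : (Z : Scheme.{u}) ⟶ W := Z.ι
    have hbr : Set.range b = (Set.range a)ᶜ := Scheme.Opens.range_ι Z
    haveI : IsClosedImmersion b := IsClosedImmersion.of_isPreimmersion b (by
      rw [hbr]; exact a.isOpenEmbedding.isOpen_range.isClosed_compl)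
    haveI : IsProper (X ↘ Spec (CommRingCat.of k)) := by rw [← hf]; infer_instance
    haveI : IsNoetherian Y := CohFound.isNoetherian_of_isProper (Y ↘ Spec (CommRingCat.of k))
    letI oZ : (Z : Scheme.{u}).Over (Spec (CommRingCat.of k)) := ⟨b ≫ p ≫ (X ↘ Spec (CommRingCat.of k))⟩
    have hcov : ∀ w : W, w ∈ Set.range a ∨ w ∈ Set.range b := fun w => by rw [hbr]; exact em _
    have hdisj : Disjoint (Set.range a) (Set.range b) := by rw [hbr]; exact disjoint_compl_right
    obtain ⟨i₁, g₁, w₁, ⟨sp⟩⟩ := exists_pushSplitting a b p hcov hdisj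
    have hbc := PullBC11.isIso_bcMap (IsPullback.of_hasPullback f f).flip (Coh.structureModule X)
      (M1.isQCoh_structureModule X)
    let ebc : (Scheme.Modules.pullback f).obj (pushO f) ≅ pushO p :=
      @asIso _ _ _ _ _ hbc ≪≫ (Scheme.Modules.pushforward p).mapIso (Twist.pullbackUnitIso _)
    have hp : FlatMod.IsFinLocFreeOfRank (n + 1) (pushO p) :=
      M2.isFinLocFreeOfRank_of_iso ebc (M2.isFinLocFreeOfRank_pullback f hr)
    have hd : pushO (a ≫ p) ≅ Coh.structureModule X :=
      (Scheme.Modules.pushforwardCongr (show a ≫ p = 𝟙 X from pullback.diagonal_fst f)).app _ ≪≫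
        (Scheme.Modules.pushforwardId X).app _
    have hO : FlatMod.IsFinLocFreeOfRank 1 (Coh.structureModule X) :=
      M2.isFinLocFreeOfRank_of_iso (M2.freeModOneIso X) (M2.isFinLocFreeOfRank_freeMod X 1)
    have h3 : FlatMod.IsFinLocFreeOfRank 1 (pushO (a ≫ p)) := M2.isFinLocFreeOfRank_of_iso hd.symm hO
    have h1 : FlatMod.IsFinLocFree (pushO (b ≫ p)) := CurveCoh17.isFinLocFree_pushO (b ≫ p)
    have hgr : FlatMod.IsFinLocFreeOfRank n (pushO (b ≫ p)) := fun x => by
      obtain ⟨U, m, hxU, ⟨e⟩⟩ := h1 x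
      suffices m = n by subst this; exact ⟨U, hxU, ⟨e⟩⟩
      have hq := RankFree12.rk_of_freeMod (M1.isFP_isQCoh (M1.isFP_of_isFinLocFree h1)) e hxU
      rw [rk_eq_finrank h1] at hq
      have h := finrank_stalk_of_splitting sp.shortExact h1 (M2.isFinLocFree_of_ofRank h3) x
      obtain ⟨t₂⟩ := nonempty_stalk_equiv hp x
      obtain ⟨t₃⟩ := nonempty_stalk_equiv h3 x
      change Module.finrank (X.presheaf.stalk x) ((pushO p).presheaf.stalk x) =
        Module.finrank (X.presheaf.stalk x) ((pushO (b ≫ p)).presheaf.stalk x) +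
          Module.finrank (X.presheaf.stalk x) ((pushO (a ≫ p)).presheaf.stalk x) at h
      rw [t₂.finrank_eq, t₃.finrank_eq, Module.finrank_fin_fun, Module.finrank_fin_fun, hq] at h
      omega
    -- the Euler characteristic of a tensor product with `p_* O`
    have hX : ∀ H : X.Modules, Coh.IsCoh H →
        Curv2.euler k X (CohB1.tensorMod H (pushO p)) = ((n + 1 : ℕ) : ℤ) * Curv2.euler k X H := by
      intro H hH
      have hc := fun {E : X.Modules} (hE : Coh.IsCoh E) => CurveCoh17.isCoh_tensor hE hH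
      have h := ChiTwist22.euler_add_coh (k := k) (sp.map (M2.tensorR H)).shortExact (hc (isCoh_of_ofRank hgr))
        (hc (isCoh_of_ofRank hp)) (hc (isCoh_of_ofRank h3))
      change Curv2.euler k X (CohB1.tensorMod (pushO p) H) =
        Curv2.euler k X (CohB1.tensorMod (pushO (b ≫ p)) H) +
          Curv2.euler k X (CohB1.tensorMod (pushO (a ≫ p)) H) at h
      rw [euler_iso (M2.tensorComm H (pushO p)), h, euler_iso (M2.tensorComm (pushO (b ≫ p)) H),
        ← euler_pullback_eq (b ≫ p) (Category.assoc _ _ _) H hH, ih (b ≫ p) (Category.assoc _ _ _) hgr H hH,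
        euler_iso (M2.tensorIso hd (Iso.refl H) ≪≫ M2.tensorLUnit H)]
      push_cast
      ring
    set E := pushO f
    have hEc : Coh.IsCoh E := isCoh_of_ofRank hr
    have hH : ∀ F : Y.Modules, Coh.IsCoh F → ChiTwist22.defect k E (n + 1) (CohB1.tensorMod F E) = 0 := by
      intro F hF
      have hFE := CurveCoh17.isCoh_tensor hF hEc
      rw [ChiTwist22.defect, ← euler_pullback_eq f hf _ hFE, ← euler_pullback_eq f hf _ hF,
        euler_iso (M2.pullTensorIso f F E ≪≫ M2.tensorIso (Iso.refl _) ebc),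
        hX _ (M1.isCoh_pullback f hF), sub_self]
    obtain ⟨d, hdim⟩ := Snapper.exists_dim_le (k := k) (X := Y)
    have := ChiTwist22.defect_eq_zero (k := k) (Nat.succ_pos n) hr hH d G hG
      (Topology.IsInducing.subtypeVal.topologicalKrullDim_le.trans hdim)
    rw [ChiTwist22.defect, ← euler_pullback_eq f hf G hG] at this
    linarith

end Groth.Agent.EtaleChi1
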